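import Mathlib
import Cfsg.Agent.Lib.Helper67.LSF.Defs

/-!
# LSF package [BWDCORE] (S5286): conjugation along a path with fixed letters is a map of the system
-/

set_option autoImplicit false

namespace Cfsg.Agent.Lib.Helper72.LSF

open Cfsg Cfsg.Agent.Lib.Helper67.LSF

universe u

variable {Ω : Type u} [Group Ω] {S : Subgroup Ω}

theorem lam_inj72 {a b : S} (h : lam S a = lam S b) : a = b := by
  have h1 := congrArg (fun f : Equiv.Perm S => f 1) h
  simpa [lam_apply] using h1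

theorem sigma_conj72 {F : FusionSystem S} (i : Idx F) (u : i.P) :
    i.σ * lam S ⟨u, (F.le_of_mem i.mem).1 u.2⟩ * i.σ⁻¹
      = lam S ⟨i.φ u, (F.le_of_mem i.mem).2 u⟩ := by
  refine Equiv.ext fun z => ?_
  rw [Equiv.Perm.mul_apply, Equiv.Perm.mul_apply, lam_apply, i.hσ, lam_apply]
  simp

theorem mem_Lam72 {F : FusionSystem S} (i : Idx F) (q : Equiv.Perm S) :
    q ∈ Lam i ↔ ∃ y : S, (y : Ω) ∈ i.P ∧ lam S y = q := by
  unfold Lam
  rw [Subgroup.mem_map]
  constructor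
  · rintro ⟨y, hy, rfl⟩
    exact ⟨y, Subgroup.mem_subgroupOf.mp hy, rfl⟩
  · rintro ⟨y, hy, rfl⟩
    exact ⟨y, Subgroup.mem_subgroupOf.mpr hy, rfl⟩

theorem pkgBwdCore : PkgHom.{u} → PkgBwdCore.{u} := by
  intro hHom Ω _ S F L q hpath
  induction hpath with
  | nil s =>
    intro P hP φ hφ _ hconj
    have hφeq : φ = conjHom P (s : Ω) := by
      ext x
      have h1 := hconj x
      rw [← map_inv, ← map_mul, ← map_mul] at h1
      have h2 := lam_inj72 h1
      have h3 := congrArg Subtype.val h2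
      simpa [conjHom] using h3.symm
    rw [hφeq]
    exact F.conj_mem hP s.2
  | @a s L q hp ih =>
    intro P hP φ hφ hfix hconj
    obtain ⟨ψ, hψv⟩ : ∃ ψ : P →* Ω, ∀ x : P, ψ x = (s : Ω)⁻¹ * φ x * (s : Ω) :=
      ⟨(MulAut.conj ((s : Ω)⁻¹)).toMonoidHom.comp φ, fun x => by simp⟩
    have hψ : ∀ x : P, ψ x ∈ S := by
      intro x
      rw [hψv]
      exact S.mul_mem (S.mul_mem (S.inv_mem s.2) (hφ x)) s.2
    have hψmem : ψ ∈ F.Hom P := by
      apply ih P hP ψ hψ hfix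
      intro x
      have h1 := hconj x
      have h2 : q * lam S ⟨x, hP x.2⟩ * q⁻¹ = (lam S s)⁻¹ * lam S ⟨φ x, hφ x⟩ * lam S s := by
        rw [← h1]
        group
      rw [h2, ← map_inv, ← map_mul, ← map_mul]
      congr 1
      apply Subtype.ext
      simp [hψv]
    have hcomp := F.comp_mem hψmem (F.conj_mem (le_refl S) s.2) hψ
    have hφeq : φ = (conjHom S (s : Ω)).comp (ψ.codRestrict S hψ) := by
      ext x
      simp [conjHom, hψv, mul_assoc]
    rw [hφeq]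
    exact hcomp
  | @t i L q hp ih =>
    intro P hP φ hφ hfix hconj
    have hLam : ∀ x : P, q * lam S ⟨x, hP x.2⟩ * q⁻¹ ∈ Lam i := by
      intro x
      have h1 : (⟨i, ((lam S ⟨x, hP x.2⟩ * q⁻¹ : Equiv.Perm S) : Equiv.Perm S ⧸ Lam i)⟩ : X F)
          = ⟨i, ((q⁻¹ : Equiv.Perm S) : Equiv.Perm S ⧸ Lam i)⟩ :=
        hfix x _ List.mem_cons_self
      have h2 := sigma_mk_injective h1
      have h3 := QuotientGroup.eq.mp h2
      have h4 : q * lam S ⟨x, hP x.2⟩ * q⁻¹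
          = ((lam S ⟨x, hP x.2⟩ * q⁻¹)⁻¹ * q⁻¹)⁻¹ := by group
      rw [h4]
      exact (Lam i).inv_mem h3
    obtain ⟨ψ, hψ, hψeq⟩ := hHom S q P hP (fun x => by
      obtain ⟨y, -, hy⟩ := (mem_Lam72 i _).mp (hLam x)
      exact ⟨y, hy.symm⟩)
    have hψP : ∀ x : P, ψ x ∈ i.P := by
      intro x
      obtain ⟨y, hyP, hy⟩ := (mem_Lam72 i _).mp (hLam x)
      have h5 : (⟨ψ x, hψ x⟩ : S) = y := lam_inj72 ((hψeq x).trans hy.symm)
      have h6 : ψ x = (y : Ω) := congrArg Subtype.val h5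
      rw [h6]
      exact hyP
    have hψmem : ψ ∈ F.Hom P := by
      apply ih P hP ψ hψ
      · intro x ℓ hℓ
        exact hfix x ℓ (List.mem_cons_of_mem _ hℓ)
      · intro x
        exact (hψeq x).symm
    have hcomp := F.comp_mem hψmem i.mem hψP
    have hφeq : φ = i.φ.comp (ψ.codRestrict i.P hψP) := by
      ext x
      have h1 := hconj x
      have h2 : i.σ * q * lam S ⟨x, hP x.2⟩ * (i.σ * q)⁻¹
          = i.σ * (q * lam S ⟨x, hP x.2⟩ * q⁻¹) * i.σ⁻¹ := by group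
      rw [h2, ← hψeq x] at h1
      have h3 := sigma_conj72 i ⟨ψ x, hψP x⟩
      have h4 := lam_inj72 (h3.symm.trans h1)
      have h5 := congrArg Subtype.val h4
      simpa using h5.symm
    rw [hφeq]
    exact hcomp
  | @t' i L q hp ih =>
    intro P hP φ hφ hfix hconj
    have hconj' : ∀ x : P, i.σ⁻¹ * (q * lam S ⟨x, hP x.2⟩ * q⁻¹) * i.σ
        = lam S ⟨φ x, hφ x⟩ := by
      intro x
      rw [← hconj x]
      group
    have hφP : ∀ x : P, φ x ∈ i.P := by
      intro x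
      have h1 : (⟨i, ((lam S ⟨x, hP x.2⟩ * (q⁻¹ * i.σ) : Equiv.Perm S) :
            Equiv.Perm S ⧸ Lam i)⟩ : X F)
          = ⟨i, ((q⁻¹ * i.σ : Equiv.Perm S) : Equiv.Perm S ⧸ Lam i)⟩ :=
        hfix x _ List.mem_cons_self
      have h2 := sigma_mk_injective h1
      have h3 := QuotientGroup.eq.mp h2
      have h4 : lam S ⟨φ x, hφ x⟩
          = ((lam S ⟨x, hP x.2⟩ * (q⁻¹ * i.σ))⁻¹ * (q⁻¹ * i.σ))⁻¹ := by
        rw [← hconj' x]
        group
      have h5 : lam S ⟨φ x, hφ x⟩ ∈ Lam i := by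
        rw [h4]
        exact (Lam i).inv_mem h3
      obtain ⟨y, hyP, hy⟩ := (mem_Lam72 i _).mp h5
      have h6 : (y : Ω) = φ x := congrArg Subtype.val (lam_inj72 hy)
      rw [← h6]
      exact hyP
    obtain ⟨ψ, hψv⟩ : ∃ ψ : P →* Ω, ∀ x : P, ψ x = i.φ ⟨φ x, hφP x⟩ :=
      ⟨i.φ.comp (φ.codRestrict i.P hφP), fun x => rfl⟩
    have hψ : ∀ x : P, ψ x ∈ S := fun x => by
      rw [hψv]
      exact (F.le_of_mem i.mem).2 _
    have hψmem : ψ ∈ F.Hom P := by
      apply ih P hP ψ hψ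
      · intro x ℓ hℓ
        exact hfix x ℓ (List.mem_cons_of_mem _ hℓ)
      · intro x
        have h3 := sigma_conj72 i ⟨φ x, hφP x⟩
        have h4 : q * lam S ⟨x, hP x.2⟩ * q⁻¹ = i.σ * lam S ⟨φ x, hφ x⟩ * i.σ⁻¹ := by
          rw [← hconj' x]
          group
        rw [h4]
        refine h3.trans ?_
        congr 1
        apply Subtype.ext
        exact (hψv x).symm
    obtain ⟨χ, hχmem, hχ⟩ := F.inv_mem i.mem
    have hrange : ∀ x : P, ψ x ∈ i.φ.range := fun x => ⟨⟨φ x, hφP x⟩, (hψv x).symm⟩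
    have hcomp := F.comp_mem hψmem hχmem hrange
    have hφeq : φ = χ.comp (ψ.codRestrict i.φ.range hrange) := by
      ext x
      have h7 := hχ ⟨φ x, hφP x⟩
      have h8 : (ψ.codRestrict i.φ.range hrange) x
          = ⟨i.φ ⟨φ x, hφP x⟩, ⟨⟨φ x, hφP x⟩, rfl⟩⟩ := by
        apply Subtype.ext
        exact hψv x
      show φ x = χ ((ψ.codRestrict i.φ.range hrange) x)
      rw [h8, h7]
    rw [hφeq]
    exact hcomp

end Cfsg.Agent.Lib.Helper72.LSF
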